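import Cfsg.Agent.ProductFusion.Theorem
import Cfsg.Agent.S3775
import Cfsg.Agent.S0949

/-!
# Abelian Sylow 2-subgroups of simple groups are homocyclic

In a non-abelian finite simple group `G` with abelian Sylow 2-subgroup `S`, every subgroup of `S`
invariant under `N(S)` is some `Ω_i(S)`: an invariant decomposition would consist of two strongly
closed subgroups, which the product theorem forbids.  Hence `S` is homocyclic and `N(S)` acts
irreducibly on `Ω₁(S)`.  If `Ω₁(S)` is a four-group then so is `S`.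
-/

set_option autoImplicit false
set_option linter.unusedSectionVars false

open scoped commutatorElement

namespace CfsgLib.Walter.Rank

universe u

variable {G : Type u} [Group G] [Finite G]

/-- By Burnside, an invariant subgroup of an abelian Sylow subgroup is strongly closed. -/
theorem stronglyClosed_of_invariant (S : Sylow 2 G) (hS : IsMulCommutative (S : Subgroup G))
    {B : Subgroup G} (hB : B ≤ (S : Subgroup G))
    (hinv : ∀ n ∈ Subgroup.normalizer ((S : Subgroup G) : Set G), ∀ b ∈ B, n * b * n⁻¹ ∈ B) :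
    Cfsg.IsStronglyClosed B (S : Subgroup G) := by
  haveI : Fact (Nat.Prime 2) := ⟨Nat.prime_two⟩
  haveI := hS
  refine ⟨hB, fun x hx g hg => ?_⟩
  obtain ⟨n, hn, he⟩ := S.conj_eq_normalizer_conj_of_mem x g⁻¹ (hB hx) (by rw [inv_inv]; exact hg)
  rw [show g * x * g⁻¹ = n⁻¹ * x * n by simpa using he]
  simpa using hinv n⁻¹ (inv_mem hn) x hx

/-- There is no decomposition of `S` into two invariant subgroups. -/
theorem not_decomposable [IsSimpleGroup G] (hG : ¬ IsMulCommutative G) (S : Sylow 2 G)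
    (hS : IsMulCommutative (S : Subgroup G)) {B C : Subgroup G} (hB : B ≤ (S : Subgroup G))
    (hC : C ≤ (S : Subgroup G))
    (hBi : ∀ n ∈ Subgroup.normalizer ((S : Subgroup G) : Set G), ∀ b ∈ B, n * b * n⁻¹ ∈ B)
    (hCi : ∀ n ∈ Subgroup.normalizer ((S : Subgroup G) : Set G), ∀ b ∈ C, n * b * n⁻¹ ∈ C)
    (hd : B ⊓ C = ⊥) : B = ⊥ ∨ C = ⊥ := by
  haveI : Fact (Nat.Prime 2) := ⟨Nat.prime_two⟩
  haveI := hS
  by_contra hne
  rw [not_or] at hne
  have hc : ∀ a ∈ B, ∀ b ∈ C, a * b = b * a := fun a ha b hb =>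
    congrArg Subtype.val
      (hS.is_comm.comm (⟨a, hB ha⟩ : (S : Subgroup G)) ⟨b, hC hb⟩)
  have h := CfsgLib.ProductFusion.commutator_le_oddCore S (stronglyClosed_of_invariant S hS hB hBi)
    (stronglyClosed_of_invariant S hS hC hCi) hc hd
  have htop : ∀ D : Subgroup G, D ≠ ⊥ → Subgroup.normalClosure (D : Set G) = ⊤ := by
    intro D hD
    refine (IsSimpleGroup.eq_bot_or_eq_top_of_normal _ Subgroup.normalClosure_normal).resolve_left
      fun h' => hD ?_
    rw [← le_bot_iff, ← h']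
    exact Subgroup.le_normalClosure
  rw [htop B hne.1, htop C hne.2] at h
  haveI : (Cfsg.oddCore G).Characteristic := PLocal.pPrimeCoreCharacteristic 2 G
  rcases IsSimpleGroup.eq_bot_or_eq_top_of_normal (Cfsg.oddCore G) inferInstance with hO | hO
  · refine hG ⟨⟨fun x y => ?_⟩⟩
    have := h (Subgroup.commutator_mem_commutator (Subgroup.mem_top x) (Subgroup.mem_top y))
    rw [hO, Subgroup.mem_bot, commutatorElement_eq_one_iff_commute] at this
    exact this
  · have hodd : ¬ 2 ∣ Nat.card G := by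
      have := PLocal.coprime_card_pPrimeCore 2 G
      rw [show Cfsg.pPrimeCore 2 G = ⊤ from hO, Nat.card_congr Subgroup.topEquiv.toEquiv] at this
      exact Nat.prime_two.coprime_iff_not_dvd.1 this.symm
    refine hne.1 (le_bot_iff.1 (hB.trans (le_of_eq ?_)))
    exact Subgroup.card_eq_one.1 (by
      rw [S.card_eq_multiplicity, Nat.factorization_eq_zero_of_not_dvd hodd, pow_zero])

/-- The image of `N(S)` in the automorphism group of an abelian `S` has odd order. -/
theorem odd_card_range (S : Sylow 2 G) (hS : IsMulCommutative (S : Subgroup G)) :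
    Odd (Nat.card (S : Subgroup G).normalizerMonoidHom.range) := by
  haveI : Fact (Nat.Prime 2) := ⟨Nat.prime_two⟩
  haveI := hS
  rw [← Subgroup.index_ker, Subgroup.normalizerMonoidHom_ker]
  have hle : ((S : Subgroup G)).subgroupOf (Subgroup.normalizer ((S : Subgroup G) : Set G)) ≤
      (Subgroup.centralizer ((S : Subgroup G) : Set G)).subgroupOf
        (Subgroup.normalizer ((S : Subgroup G) : Set G)) :=
    Subgroup.comap_mono (Subgroup.le_centralizer _)
  have h2 : ¬ 2 ∣ ((S : Subgroup G)).relIndex (Subgroup.normalizer ((S : Subgroup G) : Set G)) :=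
    fun h => S.not_dvd_index ((h.mul_right _).trans
      (Subgroup.relIndex_mul_index (H := (S : Subgroup G)) Subgroup.le_normalizer).dvd)
  exact Nat.not_even_iff_odd.1 fun h =>
    h2 ((even_iff_two_dvd.1 h).trans (Subgroup.index_dvd_of_le hle))

/-- Every invariant subgroup of `S` is an `Ω_i`. -/
theorem invariant_eq_omega [IsSimpleGroup G] (hG : ¬ IsMulCommutative G) (S : Sylow 2 G)
    (hS : IsMulCommutative (S : Subgroup G)) {B : Subgroup G} (hB : B ≤ (S : Subgroup G))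
    (hinv : ∀ n ∈ Subgroup.normalizer ((S : Subgroup G) : Set G), ∀ b ∈ B, n * b * n⁻¹ ∈ B) :
    ∃ i : ℕ, ∀ a : G, a ∈ B ↔ a ∈ (S : Subgroup G) ∧ a ^ 2 ^ i = 1 := by
  haveI : Fact (Nat.Prime 2) := ⟨Nat.prime_two⟩
  letI : CommGroup (S : Subgroup G) :=
    { (inferInstance : Group (S : Subgroup G)) with mul_comm := hS.is_comm.comm }
  set X := (S : Subgroup G).normalizerMonoidHom.range
  have hX : (Nat.card X).Coprime 2 := Nat.coprime_two_right.2 (odd_card_range S hS)
  have hmap : ∀ (D : Subgroup (S : Subgroup G)), (∀ x ∈ X, D.map x.toMonoidHom = D) →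
      ∀ n ∈ Subgroup.normalizer ((S : Subgroup G) : Set G),
        ∀ b ∈ D.map (S : Subgroup G).subtype, n * b * n⁻¹ ∈ D.map (S : Subgroup G).subtype := by
    rintro D hD n hn _ ⟨b, hb, rfl⟩
    refine ⟨(S : Subgroup G).normalizerMonoidHom ⟨n, hn⟩ b, ?_, rfl⟩
    rw [← hD _ ⟨⟨n, hn⟩, rfl⟩]
    exact ⟨b, hb, rfl⟩
  have hinj := (S : Subgroup G).subtype_injective
  have hindec : ¬ ∃ B₁ C₁ : Subgroup (S : Subgroup G), B₁ ≠ ⊥ ∧ C₁ ≠ ⊥ ∧
      (∀ x ∈ X, B₁.map x.toMonoidHom = B₁) ∧ (∀ x ∈ X, C₁.map x.toMonoidHom = C₁) ∧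
      B₁ ⊓ C₁ = ⊥ ∧ B₁ ⊔ C₁ = ⊤ := by
    rintro ⟨B₁, C₁, hB1, hC1, hBX, hCX, hd, -⟩
    rcases not_decomposable hG S hS (Subgroup.map_subtype_le B₁) (Subgroup.map_subtype_le C₁)
      (hmap B₁ hBX) (hmap C₁ hCX)
      (by rw [← Subgroup.map_inf B₁ C₁ (S : Subgroup G).subtype hinj, hd, Subgroup.map_bot]) with h | h
    · exact hB1 ((Subgroup.map_eq_bot_iff_of_injective _ hinj).1 h)
    · exact hC1 ((Subgroup.map_eq_bot_iff_of_injective _ hinj).1 h)
  obtain ⟨i, hi⟩ := (Cfsg.Agent.S3775.result S.isPGroup' X hX).1.1 hindec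
    (B.subgroupOf (S : Subgroup G)) (by
      rintro _ ⟨⟨n, hn⟩, rfl⟩
      refine Subgroup.eq_of_le_of_card_ge ?_ (le_of_eq ?_)
      · rintro _ ⟨b, hb, rfl⟩
        exact hinv n hn b hb
      · rw [Subgroup.card_map_of_injective (MulEquiv.injective _)])
  refine ⟨i, fun a => ⟨fun ha => ⟨hB ha, ?_⟩, fun ⟨ha, hai⟩ => ?_⟩⟩
  · have := congrArg Subtype.val ((hi ⟨a, hB ha⟩).1 ha)
    simpa using this
  · exact (hi ⟨a, ha⟩).2 (Subtype.ext (by simpa using hai))

/-- `N(S)` acts irreducibly on `Ω₁(S)`. -/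
theorem omega_irreducible [IsSimpleGroup G] (hG : ¬ IsMulCommutative G) (S : Sylow 2 G)
    (hS : IsMulCommutative (S : Subgroup G)) {B : Subgroup G} (hB : B ≤ (S : Subgroup G))
    (hinv : ∀ n ∈ Subgroup.normalizer ((S : Subgroup G) : Set G), ∀ b ∈ B, n * b * n⁻¹ ∈ B)
    (h2 : ∀ b ∈ B, b * b = 1) :
    B = ⊥ ∨ ∀ a : G, a ∈ B ↔ a ∈ (S : Subgroup G) ∧ a * a = 1 := by
  obtain ⟨i, hi⟩ := invariant_eq_omega hG S hS hB hinv
  cases i with
  | zero => exact Or.inl ((Subgroup.eq_bot_iff_forall B).2 fun b hb => by simpa using ((hi b).1 hb).2)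
  | succ k =>
    refine Or.inr fun a => ⟨fun ha => ⟨hB ha, h2 a ha⟩, fun ⟨ha, haa⟩ => (hi a).2 ⟨ha, ?_⟩⟩
    rw [pow_succ', pow_mul, pow_two, haa, one_pow]

/-- `S` is homocyclic: every element of `Ω₁(S)` is a `2^(m-1)`-th power, `2^m` the exponent. -/
theorem homocyclic [IsSimpleGroup G] (hG : ¬ IsMulCommutative G) (S : Sylow 2 G)
    (hS : IsMulCommutative (S : Subgroup G)) :
    ∃ m : ℕ, (∀ a ∈ (S : Subgroup G), a ^ 2 ^ m = 1) ∧ ((S : Subgroup G) ≠ ⊥ → 0 < m) ∧
      ∀ a ∈ (S : Subgroup G), a * a = 1 → ∃ b ∈ (S : Subgroup G), b ^ 2 ^ (m - 1) = a := by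
  classical
  haveI : Fact (Nat.Prime 2) := ⟨Nat.prime_two⟩
  have hex : ∃ m : ℕ, ∀ a ∈ (S : Subgroup G), a ^ 2 ^ m = 1 := by
    obtain ⟨n, hn⟩ := IsPGroup.iff_card.1 S.isPGroup'
    refine ⟨n, fun a ha => ?_⟩
    have := congrArg Subtype.val (pow_card_eq_one' (x := (⟨a, ha⟩ : (S : Subgroup G))))
    rwa [hn] at this
  refine ⟨Nat.find hex, Nat.find_spec hex, fun hne => ?_, fun a ha haa => ?_⟩
  · refine Nat.pos_of_ne_zero fun h0 => hne ((Subgroup.eq_bot_iff_forall _).2 fun a ha => ?_)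
    have := Nat.find_spec hex a ha
    rwa [h0, pow_zero, pow_one] at this
  rcases Nat.eq_zero_or_pos (Nat.find hex) with h0 | hpos
  · exact ⟨a, ha, by rw [h0, pow_zero, pow_one]⟩
  have hcom : ∀ x ∈ (S : Subgroup G), ∀ y ∈ (S : Subgroup G), Commute x y := fun x hx y hy =>
    congrArg Subtype.val (hS.is_comm.comm (⟨x, hx⟩ : (S : Subgroup G)) ⟨y, hy⟩)
  let B : Subgroup G :=
    { carrier := {x | ∃ b ∈ (S : Subgroup G), b ^ 2 ^ (Nat.find hex - 1) = x}
      one_mem' := ⟨1, one_mem _, one_pow _⟩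
      mul_mem' := by
        rintro _ _ ⟨b, hb, rfl⟩ ⟨c, hc, rfl⟩
        exact ⟨b * c, mul_mem hb hc, (hcom b hb c hc).mul_pow _⟩
      inv_mem' := by
        rintro _ ⟨b, hb, rfl⟩
        exact ⟨b⁻¹, inv_mem hb, inv_pow _ _⟩ }
  have hB2 : ∀ x ∈ B, x * x = 1 := by
    rintro _ ⟨b, hb, rfl⟩
    rw [← pow_two, ← pow_mul, ← pow_succ, Nat.sub_add_cancel hpos]
    exact Nat.find_spec hex b hb
  rcases omega_irreducible hG S hS (B := B)
      (by rintro _ ⟨b, hb, rfl⟩; exact pow_mem hb _)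
      (by
        rintro n hn _ ⟨b, hb, rfl⟩
        exact ⟨n * b * n⁻¹, (Subgroup.mem_normalizer_iff.1 hn b).1 hb, conj_pow⟩) hB2 with h | h
  · refine absurd (fun b hb => ?_) (Nat.find_min hex (Nat.sub_lt hpos one_pos))
    exact (Subgroup.eq_bot_iff_forall B).1 h _ ⟨b, hb, rfl⟩
  · exact (h a).2 ⟨ha, haa⟩

/-- If `Ω₁(S)` is a four-group, then `S` is elementary. -/
theorem sq_eq_one_of_rank_two [IsSimpleGroup G] (hG : ¬ IsMulCommutative G) (S : Sylow 2 G)
    (hS : IsMulCommutative (S : Subgroup G))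
    (h4 : Nat.card {a : G // a ∈ (S : Subgroup G) ∧ a * a = 1} = 4) :
    ∀ a ∈ (S : Subgroup G), a * a = 1 := by
  classical
  haveI : Fact (Nat.Prime 2) := ⟨Nat.prime_two⟩
  obtain ⟨m, hm, -, hdiv⟩ := homocyclic hG S hS
  rcases Nat.lt_or_ge m 2 with hlt | hge
  · intro a ha
    have := hm a ha
    interval_cases m <;> simp_all [pow_two]
  exfalso
  have hcom : ∀ x ∈ (S : Subgroup G), ∀ y ∈ (S : Subgroup G), Commute x y := fun x hx y hy =>
    congrArg Subtype.val (hS.is_comm.comm (⟨x, hx⟩ : (S : Subgroup G)) ⟨y, hy⟩)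
  haveI : Fintype {a : G // a ∈ (S : Subgroup G) ∧ a * a = 1} := Fintype.ofFinite _
  have hcard := h4
  rw [Nat.card_eq_fintype_card] at hcard
  obtain ⟨⟨x, hxS, hxx⟩, hx1⟩ :=
    Fintype.exists_ne_of_one_lt_card (by omega : 1 < Fintype.card _)
      (⟨1, one_mem _, one_mul 1⟩ : {a : G // a ∈ (S : Subgroup G) ∧ a * a = 1})
  have hx1' : x ≠ 1 := fun h => hx1 (Subtype.ext h)
  obtain ⟨⟨y, hyS, hyy⟩, hy⟩ : ∃ c : {a : G // a ∈ (S : Subgroup G) ∧ a * a = 1},
      c ∉ ({⟨1, one_mem _, one_mul 1⟩, ⟨x, hxS, hxx⟩} : Finset _) :=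
    (Finset.exists_mem_notMem_of_card_lt_card (t := Finset.univ)
      (by rw [Finset.card_univ, hcard]; exact lt_of_le_of_lt Finset.card_le_two (by norm_num))).imp
      fun c hc => hc.2
  simp only [Finset.mem_insert, Finset.mem_singleton, Subtype.mk.injEq, not_or] at hy
  obtain ⟨a, haS, rfl⟩ := hdiv x hxS hxx
  obtain ⟨b, hbS, rfl⟩ := hdiv y hyS hyy
  set k := 2 ^ (m - 1) with hk
  have h2k : 2 * k = 2 ^ m := by rw [hk, ← pow_succ', Nat.sub_add_cancel (by omega)]
  -- the map `(i, j) ↦ a ^ i * b ^ j`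
  have hkill : ∀ c ∈ (S : Subgroup G), c ^ (2 ^ m : ℤ) = 1 := fun c hc => by
    rw [show (2 ^ m : ℤ) = ((2 ^ m : ℕ) : ℤ) by push_cast; rfl, zpow_natCast]
    exact hm c hc
  let toS : (c : G) → c ∈ (S : Subgroup G) → ZMod (2 ^ m) →+ Additive (S : Subgroup G) :=
    fun c hc => ZMod.lift (2 ^ m) ⟨zmultiplesHom _ (Additive.ofMul (⟨c, hc⟩ : (S : Subgroup G))), by
      rw [zmultiplesHom_apply, ← ofMul_zpow, ← ofMul_one]
      exact congrArg _ (Subtype.ext (by simpa using hkill c hc))⟩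
  let f : Multiplicative (ZMod (2 ^ m) × ZMod (2 ^ m)) →* (S : Subgroup G) :=
    letI : CommGroup (S : Subgroup G) :=
      { (inferInstance : Group (S : Subgroup G)) with mul_comm := hS.is_comm.comm }
    AddMonoidHom.toMultiplicativeLeft ((toS a haS).coprod (toS b hbS))
  have hf : ∀ i j : ℤ, (f (Multiplicative.ofAdd ((i : ZMod (2 ^ m)), (j : ZMod (2 ^ m)))) : G) =
      a ^ i * b ^ j := by
    intro i j
    simp [f, toS]
  have hfn : ∀ i j : ℕ, (f (Multiplicative.ofAdd ((i : ZMod (2 ^ m)), (j : ZMod (2 ^ m)))) : G) =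
      a ^ i * b ^ j := fun i j => by simpa using hf i j
  have hinj : Function.Injective f := by
    rw [injective_iff_map_eq_one]
    intro z hz
    by_contra hz1
    obtain ⟨w, hw⟩ := IsPGroup.of_card (p := 2) (n := m + m)
      (G := Multiplicative (ZMod (2 ^ m) × ZMod (2 ^ m)))
      (by rw [Nat.card_congr Multiplicative.toAdd, Nat.card_prod, Nat.card_zmod, pow_add]) z
    classical
    obtain ⟨e, he, he'⟩ : ∃ e, z ^ 2 ^ (e + 1) = 1 ∧ z ^ 2 ^ e ≠ 1 := by
      have hex : ∃ e, z ^ 2 ^ e = 1 := ⟨w, hw⟩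
      have h0 : Nat.find hex ≠ 0 := fun h0 => hz1 (by simpa [h0] using Nat.find_spec hex)
      exact ⟨Nat.find hex - 1, by
        rw [Nat.sub_add_cancel (Nat.pos_of_ne_zero h0)]; exact Nat.find_spec hex,
        Nat.find_min hex (by omega)⟩
    set z₁ := z ^ 2 ^ e with hz₁
    have hfz : f z₁ = 1 := by rw [hz₁, map_pow, hz, one_pow]
    have hz2 : z₁ * z₁ = 1 := by rw [hz₁, ← pow_two, ← pow_mul, ← pow_succ, he]
    obtain ⟨⟨i, j⟩, hij⟩ : ∃ q, Multiplicative.ofAdd q = z₁ := ⟨_, rfl⟩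
    have hco : ∀ c : ZMod (2 ^ m), c + c = 0 → c = 0 ∨ c = (k : ZMod (2 ^ m)) := by
      intro c hc
      haveI : NeZero (2 ^ m) := ⟨by positivity⟩
      have hcv : (2 ^ m) ∣ c.val + c.val := by
        rw [← ZMod.natCast_eq_zero_iff]
        push_cast
        rw [ZMod.natCast_zmod_val, hc]
      have hlt : c.val < 2 ^ m := c.val_lt
      rcases hcv with ⟨d, hd⟩
      have hdlt : d < 2 := by
        by_contra hd2
        have : 2 ^ m * 2 ≤ 2 ^ m * d := Nat.mul_le_mul_left _ (by omega)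
        omega
      interval_cases d
      · exact Or.inl ((ZMod.val_eq_zero c).1 (by omega))
      · exact Or.inr (by
          rw [← ZMod.natCast_zmod_val c]; congr 1; omega)
    rw [← hij, ← ofAdd_add, ← ofAdd_zero, Multiplicative.ofAdd.injective.eq_iff,
      Prod.mk_add_mk, Prod.mk_eq_zero] at hz2
    have hf' : (f (Multiplicative.ofAdd (i, j)) : G) = 1 := by rw [hij, hfz]; rfl
    rcases hco i hz2.1 with hi | hi <;> rcases hco j hz2.2 with hj | hj <;> subst hi hj
    · exact he' (by rw [← hij]; rfl)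
    · exact hy.1 (by simpa [hfn] using (hfn 0 k).symm.trans (by simpa using hf'))
    · exact hx1' (by simpa using (hfn k 0).symm.trans (by simpa using hf'))
    · have h := (hfn k k).symm.trans hf'
      exact hy.2 (mul_left_cancel (h.trans hxx.symm))
  have hsurj : Function.Surjective f := by
    have hrange : ∀ l : ℕ, l ≤ m → ∀ c ∈ (S : Subgroup G), c ^ 2 ^ l = 1 →
        c ∈ f.range.map (S : Subgroup G).subtype := by
      intro l
      induction l with
      | zero => intro _ c _ hc; rw [pow_zero, pow_one] at hc; rw [hc]; exact one_mem _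
      | succ l ih =>
        intro hl c hc hcl
        have hsq : c ^ 2 ^ l * c ^ 2 ^ l = 1 := by rw [← pow_two, ← pow_mul, ← pow_succ, hcl]
        have hmem : ∀ i j : ℕ, a ^ i * b ^ j ∈ f.range.map (S : Subgroup G).subtype :=
          fun i j => ⟨_, ⟨Multiplicative.ofAdd ((i : ZMod (2 ^ m)), (j : ZMod (2 ^ m))), rfl⟩,
            hfn i j⟩
        obtain ⟨i, j, hij⟩ : ∃ i j : ℕ, (a ^ i * b ^ j) ^ k = c ^ 2 ^ l := by
          let ι : Fin 2 × Fin 2 → {a : G // a ∈ (S : Subgroup G) ∧ a * a = 1} := fun q =>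
            ⟨(a ^ (q.1 : ℕ) * b ^ (q.2 : ℕ)) ^ k, pow_mem (mul_mem (pow_mem haS _) (pow_mem hbS _)) _,
              by rw [← pow_two, ← pow_mul, mul_comm k 2, h2k]
                 exact hm _ (mul_mem (pow_mem haS _) (pow_mem hbS _))⟩
          have hι : Function.Injective ι := by
            have key : ∀ q : Fin 2 × Fin 2, (ι q : G) =
                (a ^ k) ^ (q.1 : ℕ) * (b ^ k) ^ (q.2 : ℕ) := fun q => by
              show (a ^ (q.1 : ℕ) * b ^ (q.2 : ℕ)) ^ k = _
              rw [(hcom _ (pow_mem haS _) _ (pow_mem hbS _)).mul_pow, ← pow_mul, ← pow_mul,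
                ← pow_mul, ← pow_mul, mul_comm (q.1 : ℕ), mul_comm (q.2 : ℕ)]
            rintro ⟨p, q⟩ ⟨p', q'⟩ h
            have h' := (key _).symm.trans ((congrArg Subtype.val h).trans (key _))
            simp only at h'
            fin_cases p <;> fin_cases q <;> fin_cases p' <;> fin_cases q' <;>
              simp at h' ⊢ <;>
              first
                | exact hx1' h' | exact hx1' h'.symm | exact hy.1 h' | exact hy.1 h'.symm
                | exact hy.2 h' | exact hy.2 h'.symm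
                | exact hy.2 (mul_left_cancel (h'.trans hxx.symm))
                | exact hy.2 (mul_left_cancel (h'.symm.trans hxx.symm))
          have hbij : Function.Bijective ι :=
            (Fintype.bijective_iff_injective_and_card ι).2 ⟨hι, by simp [hcard]⟩
          obtain ⟨⟨i, j⟩, h⟩ := hbij.2 ⟨c ^ 2 ^ l, pow_mem hc _, hsq⟩
          exact ⟨i, j, congrArg Subtype.val h⟩
        set d := (a ^ i * b ^ j) ^ 2 ^ (m - 1 - l) with hd
        have hdS : d ∈ (S : Subgroup G) := pow_mem (mul_mem (pow_mem haS _) (pow_mem hbS _)) _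
        have hdl : d ^ 2 ^ l = c ^ 2 ^ l := by
          rw [hd, ← pow_mul, ← pow_add, Nat.sub_add_cancel (by omega), hij]
        have := ih (by omega) (c * d⁻¹) (mul_mem hc (inv_mem hdS)) (by
          rw [(hcom c hc _ (inv_mem hdS)).mul_pow, inv_pow, hdl, mul_inv_cancel])
        have h2 := mul_mem this (pow_mem (hmem i j) (2 ^ (m - 1 - l)))
        rwa [← hd, inv_mul_cancel_right] at h2
    intro c
    obtain ⟨_, ⟨z, rfl⟩, hz⟩ := hrange m le_rfl c c.2 (hm c c.2)
    exact ⟨z, Subtype.ext hz⟩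
  have hO : ∀ N : Subgroup G, N.Normal → Odd (Nat.card N) → N = ⊥ := by
    intro N hN hodd
    refine (IsSimpleGroup.eq_bot_or_eq_top_of_normal N hN).resolve_right fun h => ?_
    subst h
    rw [Nat.card_congr Subgroup.topEquiv.toEquiv] at hodd
    have h2 : 2 ∣ Nat.card (S : Subgroup G) := by
      rw [← Nat.card_congr (MulEquiv.ofBijective f ⟨hinj, hsurj⟩).toEquiv,
        Nat.card_congr Multiplicative.toAdd, Nat.card_prod, Nat.card_zmod]
      exact (dvd_pow_self 2 (by omega)).mul_right _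
    exact Nat.not_even_iff_odd.2 hodd
      (even_iff_two_dvd.2 (h2.trans (S : Subgroup G).card_subgroup_dvd_card))
  have hnorm := (Cfsg.Agent.S0949.result S m hge (MulEquiv.ofBijective f ⟨hinj, hsurj⟩).symm hO).1
  rcases IsSimpleGroup.eq_bot_or_eq_top_of_normal _ hnorm with h | h
  · exact hx1' (by rw [h, Subgroup.mem_bot] at hxS; exact hxS)
  · refine hG ⟨⟨fun p q => ?_⟩⟩
    exact hcom p (h ▸ Subgroup.mem_top p) q (h ▸ Subgroup.mem_top q)

end CfsgLib.Walter.Rank
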